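import Groth.Agent.UnibConn.Fibre
import Mathlib

/-!
# Residue fields of normalisations of Noetherian local domains
-/

set_option autoImplicit false
universe u

namespace Groth.Agent.H1Norm
open UnibConn

variable (A : Type u) [CommRing A] [IsDomain A] [IsNoetherianRing A] [IsLocalRing A]
  (K : Type u) [Field K] [Algebra A K] [IsFractionRing A K]

local notation "R'" => AdicCompletion (IsLocalRing.maximalIdeal A) A

set_option maxHeartbeats 1000000 in
theorem finite_residue (M : Ideal (integralClosure A K)) [M.IsMaximal] :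
    Module.Finite A (integralClosure A K ⧸ M) := by
  classical
  haveI := UnibConn.isNoetherianRing_completion (A := A)
  haveI : ∀ Q : Ideal R', ∀ [Q.IsPrime], IsLocalRing (NQ Q) := fun Q _ => isLocalRing_NQ Q
  let T := {Q : Ideal R' // Q ∈ minimalPrimes R'}
  haveI : Finite T := (minimalPrimes.finite_of_isNoetherianRing R').to_subtype
  haveI : Fintype T := Fintype.ofFinite T
  haveI : ∀ Q : T, (Q.1).IsPrime := fun Q => Q.2.1.1
  have hsub : ∃ Q : T, M = (IsLocalRing.maximalIdeal (NQ Q.1)).comap (thetaQ K Q.2) := by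
    let c : T → Ideal (integralClosure A K) := fun Q =>
      (IsLocalRing.maximalIdeal (NQ Q.1)).comap (thetaQ K Q.2)
    have hsub : (M : Set (integralClosure A K)) ⊆ ⋃ Q ∈ ((Finset.univ : Finset T) : Set T), (c Q : Set _) := by
      intro y hy
      by_contra hno
      simp only [Finset.coe_univ, Set.mem_univ, Set.iUnion_true, Set.mem_iUnion, not_exists] at hno
      have hu : ∀ Q : T, IsUnit (thetaQ K Q.2 y) := fun Q => by
        by_contra hn
        exact hno Q ((IsLocalRing.mem_maximalIdeal _).2 hn)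
      obtain ⟨Q₀, hQ₀⟩ := Ideal.nonempty_minimalPrimes (I := (⊥ : Ideal R')) bot_ne_top
      have hy0 : (y : K) ≠ 0 := by
        intro h0
        have hh := hu ⟨Q₀, hQ₀⟩
        rw [show y = 0 from Subtype.ext h0, map_zero] at hh
        exact not_isUnit_zero hh
      have hint : IsIntegral A (y : K)⁻¹ := isIntegral_of_forall_toFQ K fun Q _ hQ => by
        obtain ⟨v, hv⟩ := hu ⟨Q, hQ⟩
        have e : toFQ K hQ (y : K)⁻¹ = ((v⁻¹ : (NQ Q)ˣ) : NQ Q).1 := by
          rw [map_inv₀, ← coe_thetaQ K hQ y, ← hv]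
          exact inv_eq_of_mul_eq_one_left (congrArg Subtype.val v.inv_mul)
        rw [e]
        exact ((v⁻¹ : (NQ Q)ˣ) : NQ Q).2
      exact (‹M.IsMaximal›).ne_top (Ideal.eq_top_of_isUnit_mem _ hy
        ⟨⟨y, ⟨_, hint⟩, Subtype.ext (mul_inv_cancel₀ hy0), Subtype.ext (inv_mul_cancel₀ hy0)⟩, rfl⟩)
    obtain ⟨Q₀, hQ₀⟩ := Ideal.nonempty_minimalPrimes (I := (⊥ : Ideal R')) bot_ne_top
    obtain ⟨Q', -, hle⟩ := (Ideal.subset_union_prime (f := c) ⟨Q₀, hQ₀⟩ ⟨Q₀, hQ₀⟩
      fun Q' _ _ _ => Ideal.comap_isPrime _ _).1 hsub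
    exact ⟨Q', (‹M.IsMaximal›).eq_of_le (Ideal.IsPrime.ne_top (Ideal.comap_isPrime _ _)) hle⟩
  obtain ⟨⟨Q, hQ⟩, hM⟩ := hsub
  haveI : Q.IsPrime := hQ.1.1
  haveI := finite_NQ (A := A) Q
  haveI : Module.Finite R' (NQ Q) := Module.Finite.trans (R' ⧸ Q) (NQ Q)
  let mN := IsLocalRing.maximalIdeal (NQ Q)
  haveI : Module.Finite R' (NQ Q ⧸ mN) :=
    Module.Finite.of_surjective (Ideal.Quotient.mkₐ R' mN).toLinearMap Ideal.Quotient.mk_surjective
  have hcomap : ∀ z ∈ (IsLocalRing.maximalIdeal A).map (algebraMap A R'),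
      algebraMap R' (NQ Q) z ∈ mN := by
    intro z hz
    have hm : mN.comap (algebraMap R' (NQ Q)) = IsLocalRing.maximalIdeal R' :=
      IsLocalRing.eq_maximalIdeal (Ideal.isMaximal_comap_of_isIntegral_of_isMaximal (R := R') mN)
    rw [← Ideal.mem_comap, hm,
      AdicCompletion.maximalIdeal_eq_map_of_fg (IsNoetherian.noetherian _)]
    exact hz
  haveI hfin : Module.Finite A (NQ Q ⧸ mN) := by
    obtain ⟨s, hs⟩ := Module.Finite.fg_top (R := R') (M := NQ Q ⧸ mN)
    refine ⟨⟨s, eq_top_iff.mpr fun z _ => ?_⟩⟩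
    have hz : z ∈ Submodule.span R' (s : Set (NQ Q ⧸ mN)) := hs ▸ Submodule.mem_top
    induction hz using Submodule.span_induction with
    | mem x hx => exact Submodule.subset_span hx
    | zero => exact zero_mem _
    | add x y _ _ hx hy => exact add_mem (hx trivial) (hy trivial)
    | smul r x _ hx =>
      obtain ⟨a, ha⟩ := exists_approx (A := A) r 1
      have hr : r • x = a • x := by
        rw [pow_one] at ha
        rw [← algebraMap_smul R' a x, ← sub_eq_zero, ← sub_smul, Algebra.smul_def,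
          IsScalarTower.algebraMap_apply R' (NQ Q) (NQ Q ⧸ mN), Ideal.Quotient.algebraMap_eq,
          Ideal.Quotient.eq_zero_iff_mem.mpr (hcomap _ ha), zero_mul]
      rw [hr]
      exact Submodule.smul_mem _ _ (hx trivial)
  let φ : integralClosure A K →ₐ[A] NQ Q ⧸ mN :=
    { (Ideal.Quotient.mk mN).comp (thetaQ K hQ) with
      commutes' := fun a => by
        show Ideal.Quotient.mk mN (thetaQ K hQ (algebraMap A (integralClosure A K) a)) = _
        rw [IsScalarTower.algebraMap_apply A (NQ Q) (NQ Q ⧸ mN), Ideal.Quotient.algebraMap_eq]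
        congr 1
        exact Subtype.ext ((coe_thetaQ K hQ _).trans ((toFQ K hQ).commutes a)) }
  have hker : M = RingHom.ker φ := by
    ext x
    rw [hM, Ideal.mem_comap, RingHom.mem_ker]
    exact (Ideal.Quotient.eq_zero_iff_mem).symm
  exact Module.Finite.of_injective ((Ideal.kerLiftAlg φ).comp (Ideal.quotientEquivAlgOfEq A hker).toAlgHom).toLinearMap
    ((Ideal.kerLiftAlg_injective φ).comp (Ideal.quotientEquivAlgOfEq A hker).injective)

end Groth.Agent.H1Norm
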