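import Groth.Agent.H1Norm.Residue

/-!
# Semi-locality of the normalisation in a finite extension
-/

set_option autoImplicit false
universe u

namespace Groth.Agent.H1Norm
open UnibConn

theorem finite_of_exists_algebraMap {R R₁ N : Type*} [CommRing R] [CommRing R₁] [CommRing N] [Algebra R N]
    [Algebra R₁ N] [Module.Finite R₁ N] (h : ∀ r : R₁, ∃ a : R, algebraMap R₁ N r = algebraMap R N a) :
    Module.Finite R N := by
  obtain ⟨s, hs⟩ := Module.Finite.fg_top (R := R₁) (M := N)
  refine ⟨⟨s, eq_top_iff.mpr fun z _ => ?_⟩⟩
  have hz : z ∈ Submodule.span R₁ (s : Set N) := hs ▸ Submodule.mem_top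
  induction hz using Submodule.span_induction with
  | mem x hx => exact Submodule.subset_span hx
  | zero => exact zero_mem _
  | add x y _ _ hx hy => exact add_mem (hx trivial) (hy trivial)
  | smul r x _ hx =>
    obtain ⟨a, ha⟩ := h r
    rw [Algebra.smul_def, ha, ← Algebra.smul_def]
    exact Submodule.smul_mem _ _ (hx trivial)

set_option maxHeartbeats 1000000 in
theorem finite_residue_over (C : Type u) [CommRing C] [IsDomain C] [IsNoetherianRing C]
    (K : Type u) [Field K] [Algebra C K] [IsFractionRing C K]
    (B : Type u) [CommRing B] [Algebra C B] [Algebra B K] [IsScalarTower C B K] [IsIntegralClosure B C K]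
    (M : Ideal B) [M.IsMaximal] : Module.Finite C (B ⧸ M) := by
  classical
  haveI : Algebra.IsIntegral C B := IsIntegralClosure.isIntegral_algebra C K
  let z : Ideal C := M.comap (algebraMap C B)
  haveI hz : z.IsMaximal := Ideal.isMaximal_comap_of_isIntegral_of_isMaximal (R := C) M
  letI := algAtPrime C K z
  haveI : IsScalarTower C (Localization.AtPrime z) K :=
    IsScalarTower.of_algebraMap_eq' (IsLocalization.lift_comp _).symm
  haveI := isFractionRing_atPrime C K z
  haveI : IsDomain (Localization.AtPrime z) :=
    IsLocalization.isDomain_localization z.primeCompl_le_nonZeroDivisors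
  haveI : IsNoetherianRing (Localization.AtPrime z) :=
    IsLocalization.isNoetherianRing z.primeCompl _ ‹_›
  obtain ⟨M', hM', hM'M⟩ := exists_maximal_over C K B z M rfl
  haveI := hM'
  haveI := finite_residue (Localization.AtPrime z) K M'
  haveI hfin : Module.Finite C (integralClosure (Localization.AtPrime z) K ⧸ M') := by
    refine finite_of_exists_algebraMap (R₁ := Localization.AtPrime z)
      (N := integralClosure (Localization.AtPrime z) K ⧸ M') fun r => ?_
    obtain ⟨c, hc⟩ := (IsLocalization.AtPrime.equivQuotMaximalIdeal z (Localization.AtPrime z)).surjective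
      (Ideal.Quotient.mk _ r)
    obtain ⟨c, rfl⟩ := Ideal.Quotient.mk_surjective c
    rw [IsLocalization.AtPrime.equivQuotMaximalIdeal_apply_mk, Ideal.Quotient.eq] at hc
    refine ⟨c, ?_⟩
    have hmem : algebraMap (Localization.AtPrime z) (integralClosure (Localization.AtPrime z) K)
        (algebraMap C (Localization.AtPrime z) c - r) ∈ M' := by
      rw [← Ideal.mem_comap, IsLocalRing.eq_maximalIdeal
        (Ideal.isMaximal_comap_of_isIntegral_of_isMaximal (R := Localization.AtPrime z) M')]
      exact hc
    rw [← Ideal.Quotient.eq_zero_iff_mem, map_sub, map_sub, sub_eq_zero] at hmem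
    rw [IsScalarTower.algebraMap_apply C (Localization.AtPrime z)
      (integralClosure (Localization.AtPrime z) K ⧸ M')]
    exact hmem.symm
  let φ : B →ₐ[C] integralClosure (Localization.AtPrime z) K ⧸ M' :=
    { (Ideal.Quotient.mk M').comp (toNormAtPrime C K B z) with
      commutes' := fun a => by
        show Ideal.Quotient.mk M' (toNormAtPrime C K B z (algebraMap C B a)) = _
        rw [IsScalarTower.algebraMap_apply C (integralClosure (Localization.AtPrime z) K)
          (integralClosure (Localization.AtPrime z) K ⧸ M'), Ideal.Quotient.algebraMap_eq]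
        congr 1
        exact Subtype.ext (IsScalarTower.algebraMap_apply C B K a).symm }
  have hker : M = RingHom.ker φ := by
    refine hM'M.symm.trans ?_
    ext x
    rw [Ideal.mem_comap, RingHom.mem_ker]
    exact (Ideal.Quotient.eq_zero_iff_mem).symm
  exact Module.Finite.of_injective ((Ideal.kerLiftAlg φ).comp (Ideal.quotientEquivAlgOfEq C hker).toAlgHom).toLinearMap
    ((Ideal.kerLiftAlg_injective φ).comp (Ideal.quotientEquivAlgOfEq C hker).injective)

end Groth.Agent.H1Norm
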